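import Mathlib
import Cfsg.Agent.Cl.AutPSp
import Cfsg.Agent.Cl.SpMat

set_option autoImplicit false
set_option linter.unusedSectionVars false

namespace Cfsg.Agent.SQ

open Cfsg Cfsg.Agent.Cl Subgroup Module

variable {F V : Type*} [Field F] [Finite F] [CharP F 2] [AddCommGroup V] [Module F V] [FiniteDimensional F V]
  {B : LinearMap.BilinForm F V}

theorem KAut_sq {c : F} (h : c * c = 1) : c = 1 :=
  (mul_self_eq_one_iff.1 h).elim id fun k => k.trans (CharTwo.neg_eq 1)

theorem KAut_ex (hB : B.Nondegenerate) (h6 : 6 ≤ finrank F V) : ∃ u v, B u v ≠ 0 := by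
  have : Nontrivial V := Module.nontrivial_of_finrank_pos (R := F) (by omega)
  obtain ⟨u, hu⟩ := exists_ne (0 : V)
  by_contra! h
  exact hu (hB.1 u (h u))

/-- `Sp(V)` contains no scalars in characteristic two. -/
def KAut_pc (hB : B.Nondegenerate) (h6 : 6 ≤ finrank F V) : Aut.PC (SpG B) (SpG B) where
  π := MonoidHom.id _
  surj := Function.surjective_id
  ker g := ⟨by rintro (rfl : g = 1); exact ⟨1, fun v => (one_smul F v).symm⟩, fun ⟨c, hc⟩ => by
    obtain ⟨u, v, huv⟩ := KAut_ex hB h6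
    have h1 := spG_form g u v
    rw [hc, hc, map_smul, map_smul, LinearMap.smul_apply, smul_eq_mul, smul_eq_mul, ← mul_assoc] at h1
    have h3 : c = 1 := KAut_sq (mul_right_cancel₀ huv (h1.trans (one_mul _).symm))
    exact spG_ext fun v => (hc v).trans (by rw [h3, one_smul]; rfl)⟩

/-- Every automorphism of `Sp(V)`, `dim V ≥ 6`, characteristic two, is induced by a semilinear isometry. -/
theorem sp_aut (hB : B.Nondegenerate) (hA : B.IsAlt) (h6 : 6 ≤ finrank F V) (α : MulAut (SpG B)) :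
    ∃ (γ : V ≃+ V) (σ : RingAut F), (∀ (a : F) v, γ (a • v) = σ a • γ v) ∧ (∀ u v, B (γ u) (γ v) = σ (B u v)) ∧
      ∀ (g : SpG B) v, (α g).1 (γ v) = γ (g.1 v) := by
  have h2 : (2 : F) = 0 := CharTwo.two_eq_zero
  have h5 := (Aut.altPS hB hA).dim5_of_finrank (by omega)
  have hg := Aut.altPS_good hB hA (G := SpG B) rfl
  have C := Aut.corr_two 2 ((KAut_pc hB h6).comp α) (KAut_pc hB h6) (Aut.altPS_two hB hA h2) (Aut.altPS_two hB hA h2)
    hg hg h5 h5
  obtain ⟨γ, σ, c, hs, h3⟩ := C.exists_semiSim (Aut.altPS_rank2 _ _ C.dim) (Aut.altPS_conn _ _)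
  obtain ⟨d, hd⟩ := (frobeniusEquiv F 2).surjective c⁻¹
  have hd' : d * d * c = 1 := by rw [← pow_two, show d ^ 2 = c⁻¹ from hd, inv_mul_cancel₀ hs.ne]
  have d0 : d ≠ 0 := by rintro rfl; simp at hd'
  let δ : V ≃+ V := γ.trans (LinearEquiv.smulOfNeZero F V d d0).toAddEquiv
  have e : ∀ v, δ v = d • γ v := fun v => rfl
  have hf : ∀ u v, B (δ u) (δ v) = σ (B u v) := fun u v => by
    have := hs.form u v
    change B (γ u) (γ v) = c * σ (B u v) at this
    rw [e, e, map_smul, map_smul, LinearMap.smul_apply, smul_eq_mul, smul_eq_mul, this, ← mul_assoc, ← mul_assoc, hd', one_mul]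
  refine ⟨δ, σ, fun a v => by rw [e, e, hs.smul, smul_comm], hf, fun g => ?_⟩
  obtain ⟨c', h4⟩ := h3 g (α g) rfl
  have h5 : ∀ v, (α g).1 (δ v) = c' • δ (g.1 v) := fun v => by rw [e, e, map_smul, h4, smul_comm]
  obtain ⟨u, v, huv⟩ := KAut_ex hB h6
  have h6 := spG_form (α g) (δ u) (δ v)
  rw [h5, h5, map_smul, map_smul, LinearMap.smul_apply, smul_eq_mul, smul_eq_mul, hf, hf, spG_form, ← mul_assoc] at h6
  have : c' = 1 := KAut_sq (mul_right_cancel₀ ((map_ne_zero σ).2 huv) (h6.trans (one_mul _).symm))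
  intro v
  rw [h5, this, one_smul]

end Cfsg.Agent.SQ
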