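import Mathlib
import Cfsg.Agent.Chev.RootBNBruhat
import Cfsg.Agent.Chev.RootBNLevi

/-! A family of subgroups lying over the root subgroups of a model generates a central extension. -/

set_option autoImplicit false
set_option linter.unusedSectionVars false

namespace Cfsg.Agent.SQ.IA

open Cfsg Subgroup Cfsg.Agent.Chev Cfsg.Agent.Chev.RootBN

variable {G' : Type*} [Group G'] {Φ I : Type*} [Finite Φ]

/-- `π` is injective on `A`. -/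
def Inj {Γ : Type*} [Group Γ] (π : Γ →* G') (A : Subgroup Γ) : Prop := ∀ g ∈ A, π g = 1 → g = 1

theorem Inj.eq {Γ : Type*} [Group Γ] {π : Γ →* G'} {A : Subgroup Γ} (h : Inj π A) {p q : Γ}
    (hp : p ∈ A) (hq : q ∈ A) (e : π p = π q) : p = q :=
  mul_inv_eq_one.1 (h _ (mul_mem hp (inv_mem hq)) (by rw [map_mul, map_inv, e, mul_inv_cancel]))

theorem Inj.mono {Γ : Type*} [Group Γ] {π : Γ →* G'} {A B : Subgroup Γ} (h : Inj π A) (e : B ≤ A) : Inj π B :=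
  fun g hg => h g (e hg)

/-- A family lying over the root subgroups. -/
structure Cov (R : RootBN G' Φ I) (Γ : Type*) [Group Γ] where
  P : Φ → Subgroup Γ
  π : Γ →* G'
  map : ∀ r, (P r).map π = R.X r
  injU : Inj π (⨆ r ∈ {r | R.pos r}, P r)
  injV : Inj π (⨆ r ∈ {r | ¬ R.pos r}, P r)
  nU : ∀ i, ∀ g ∈ P (R.simple i) ⊔ P (R.neg (R.simple i)), ∀ x ∈ ⨆ r ∈ {r | R.pos r ∧ r ≠ R.simple i}, P r,
    g * x * g⁻¹ ∈ ⨆ r ∈ {r | R.pos r ∧ r ≠ R.simple i}, P r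
  nV : ∀ i, ∀ g ∈ P (R.simple i) ⊔ P (R.neg (R.simple i)),
    ∀ x ∈ ⨆ r ∈ {r | ¬ R.pos r ∧ r ≠ R.neg (R.simple i)}, P r,
    g * x * g⁻¹ ∈ ⨆ r ∈ {r | ¬ R.pos r ∧ r ≠ R.neg (R.simple i)}, P r
  gen : ∀ i β, (β = R.simple i ∨ β = R.neg (R.simple i)) → ∃ S : Set Φ,
    (∀ γ ∈ S, γ ≠ R.simple i ∧ γ ≠ R.neg (R.simple i)) ∧ P β ≤ (⨆ γ ∈ S, P γ) ∧
    Inj π ((⨆ γ ∈ S, P (R.w (R.s i) γ)) ⊔ P (R.w (R.s i) β))

namespace Cov

variable {R : RootBN G' Φ I} {Γ : Type*} [Group Γ] (c : Cov R Γ)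

theorem le_XS {S : Set Φ} {r : Φ} (h : r ∈ S) : c.P r ≤ ⨆ r ∈ S, c.P r :=
  le_iSup₂ (f := fun r (_ : r ∈ S) => c.P r) r h

theorem XS_mono {S T : Set Φ} (h : S ⊆ T) : ⨆ r ∈ S, c.P r ≤ ⨆ r ∈ T, c.P r :=
  iSup₂_le fun _ hr => c.le_XS (h hr)

theorem inj (r : Φ) : Inj c.π (c.P r) := by
  by_cases h : R.pos r
  · exact c.injU.mono (c.le_XS h)
  · exact c.injV.mono (c.le_XS h)

theorem lift {α : Φ} {x : G'} (hx : x ∈ R.X α) : ∃ p ∈ c.P α, c.π p = x := by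
  rw [← c.map] at hx
  exact hx

theorem mem {α : Φ} {p : Γ} (hp : p ∈ c.P α) : c.π p ∈ R.X α := c.map α ▸ mem_map_of_mem _ hp

theorem map_XS (S : Set Φ) : (⨆ r ∈ S, c.P r).map c.π = R.XS S := by
  simp only [XS, Subgroup.map_iSup, c.map]

/-- The monomial group upstairs. -/
def N : Subgroup Γ where
  carrier := {g | c.π g ∈ R.N ∧ ∀ α, ∀ p ∈ c.P α, g * p * g⁻¹ ∈ c.P (R.w (c.π g) α)}
  one_mem' := ⟨by rw [map_one]; exact one_mem _, fun α p hp => by simpa [w_one] using hp⟩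
  mul_mem' := by
    rintro a b ⟨a1, a2⟩ ⟨b1, b2⟩
    refine ⟨by rw [map_mul]; exact mul_mem a1 b1, fun α p hp => ?_⟩
    rw [map_mul, w_mul_apply a1 b1, show a * b * p * (a * b)⁻¹ = a * (b * p * b⁻¹) * a⁻¹ by group]
    exact a2 _ _ (b2 α p hp)
  inv_mem' := by
    rintro a ⟨a1, a2⟩
    refine ⟨by rw [map_inv]; exact inv_mem a1, fun α p hp => ?_⟩
    rw [map_inv]
    obtain ⟨q, hq, e⟩ := c.lift (R.conj_X (inv_mem a1) (c.mem hp))
    have h1 := a2 _ q hq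
    rw [w_apply_inv a1] at h1
    rw [← (c.inj _).eq h1 hp (by rw [map_mul, map_mul, map_inv, e]; group)]
    simpa [mul_assoc] using hq

theorem key1 {i : I} {g : Γ} (hg : g ∈ c.P (R.simple i) ⊔ c.P (R.neg (R.simple i)))
    (hn : c.π g ∈ R.N) (hw : R.w (c.π g) = R.w (R.s i)) {β : Φ} (h1 : β ≠ R.simple i)
    (h2 : β ≠ R.neg (R.simple i)) {p : Γ} (hp : p ∈ c.P β) : g * p * g⁻¹ ∈ c.P (R.w (c.π g) β) := by
  obtain ⟨q, hq, e⟩ := c.lift (R.conj_X hn (c.mem hp))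
  rw [← map_inv, ← map_mul, ← map_mul] at e
  by_cases hb : R.pos β
  · have k := R.pos_w_s i β hb h1
    rw [← hw] at k
    rwa [← c.injU.eq (c.le_XS k hq) (c.XS_mono (fun _ => And.left) (c.nU i g hg p (c.le_XS (And.intro hb h1) hp))) e]
  · have k := R.pos_w_s i _ ((R.pos_neg β).2 hb) fun e => h2 (by rw [← e, R.neg_neg])
    rw [R.w_neg (R.s_mem i), R.pos_neg, ← hw] at k
    rwa [← c.injV.eq (c.le_XS k hq) (c.XS_mono (fun _ => And.left) (c.nV i g hg p (c.le_XS (And.intro hb h2) hp))) e]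

theorem key {i : I} {g : Γ} (hg : g ∈ c.P (R.simple i) ⊔ c.P (R.neg (R.simple i)))
    (hn : c.π g ∈ R.N) (hw : R.w (c.π g) = R.w (R.s i)) : g ∈ c.N := by
  refine ⟨hn, fun β p hp => ?_⟩
  by_cases h : β = R.simple i ∨ β = R.neg (R.simple i)
  swap
  · exact c.key1 hg hn hw (fun e => h (.inl e)) (fun e => h (.inr e)) hp
  obtain ⟨S, h1, h2, h3⟩ := c.gen i β h
  rw [← hw] at h3
  obtain ⟨q, hq, e⟩ := c.lift (R.conj_X hn (c.mem hp))
  rw [← map_inv, ← map_mul, ← map_mul] at e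
  have h4 : (⨆ γ ∈ S, c.P γ) ≤ (⨆ γ ∈ S, c.P (R.w (c.π g) γ)).comap (MulAut.conj g).toMonoidHom :=
    iSup₂_le fun γ hγ x hx => le_iSup₂ (f := fun γ (_ : γ ∈ S) => c.P (R.w (c.π g) γ)) γ hγ
      (c.key1 hg hn hw (h1 γ hγ).1 (h1 γ hγ).2 hx)
  have h5 : g * p * g⁻¹ ∈ ⨆ γ ∈ S, c.P (R.w (c.π g) γ) := h4 (h2 hp)
  rwa [← h3.eq (mem_sup_right hq) (mem_sup_left h5) e]

theorem rk (i : I) {y : Γ} (hy : y ∈ c.P (R.neg (R.simple i))) (y1 : c.π y ≠ 1) :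
    ∃ a ∈ c.P (R.simple i), ∃ n ∈ c.N, R.w (c.π n) = R.w (R.s i) ∧ ∃ b ∈ c.P (R.simple i),
      y = a * n * b := by
  have h1 : (R.s i)⁻¹ * c.π y * R.s i ∈ R.X (R.simple i) :=
    conj_X_inv (R.s_mem i) (R.w_s_simple i ▸ c.mem hy)
  obtain ⟨a, ha0, h, hh, b, hb0, e⟩ := R.rank_one i h1 fun e => y1 (by
    calc c.π y = R.s i * ((R.s i)⁻¹ * c.π y * R.s i) * (R.s i)⁻¹ := by group
      _ = 1 := by rw [e]; group)
  obtain ⟨a, ha, rfl⟩ := c.lift ha0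
  obtain ⟨b, hb, rfl⟩ := c.lift hb0
  have e1 : c.π (a⁻¹ * y * b⁻¹) = h * R.s i := by
    rw [map_mul, map_mul, map_inv, map_inv]
    calc _ = (c.π a)⁻¹ * (R.s i * ((R.s i)⁻¹ * c.π y * R.s i) * (R.s i)⁻¹) * (c.π b)⁻¹ := by group
      _ = _ := by rw [e]; group
  have e2 : R.w (c.π (a⁻¹ * y * b⁻¹)) = R.w (R.s i) := by rw [e1, w_H_mul (R.s_mem i) hh]
  exact ⟨a, ha, _, c.key (mul_mem (mul_mem (inv_mem (mem_sup_left ha)) (mem_sup_right hy))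
    (inv_mem (mem_sup_left hb))) (e1 ▸ mul_mem (R.H_le_N hh) (R.s_mem i)) e2, e2, b, hb, by group⟩

theorem exists_s (i : I) : ∃ s, s ∈ c.N ∧ R.w (c.π s) = R.w (R.s i) := by
  obtain ⟨⟨x, hx⟩, x1⟩ := ne_bot_iff_exists_ne_one.1 (R.X_ne_bot (R.neg (R.simple i)))
  obtain ⟨y, hy, rfl⟩ := c.lift hx
  obtain ⟨-, -, n, h1, h2, -⟩ := c.rk i hy fun e => x1 (Subtype.ext e)
  exact ⟨n, h1, h2⟩

theorem π_U {u : Γ} (h : u ∈ ⨆ r ∈ {r | R.pos r}, c.P r) : c.π u ∈ R.U := by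
  rw [U_eq_XS, ← c.map_XS]; exact mem_map_of_mem _ h

/-- The root data upstairs. -/
noncomputable def R' : RootBN Γ Φ I where
  G := (⨆ r ∈ {r | R.pos r}, c.P r) ⊔ c.N
  U := ⨆ r ∈ {r | R.pos r}, c.P r
  V := ⨆ r ∈ {r | ¬ R.pos r}, c.P r
  H := c.N ⊓ R.H.comap c.π
  N := c.N
  X := c.P
  pos := R.pos
  neg := R.neg
  simple := R.simple
  supp := R.supp
  s i := (c.exists_s i).choose
  w g := R.w (c.π g)
  G_eq := rfl
  U_eq := rfl
  V_eq := rfl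
  neg_neg := R.neg_neg
  pos_neg := R.pos_neg
  w_mul h k := by rw [map_mul, R.w_mul h.1 k.1]
  w_neg h := R.w_neg h.1
  conj_X h _ _ k := h.2 _ _ k
  H_le_N := inf_le_left
  w_H h := R.w_H h.2
  s_mem i := (c.exists_s i).choose_spec.1
  pos_simple := R.pos_simple
  w_s_simple i := by rw [(c.exists_s i).choose_spec.2, R.w_s_simple]
  pos_w_s i := by rw [(c.exists_s i).choose_spec.2]; exact R.pos_w_s i
  descent h k := ⟨h, R.descent h.1 k⟩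
  lin h := R.lin h.1
  supp_neg := R.supp_neg
  supp_simple := R.supp_simple
  supp_w_s i := by rw [(c.exists_s i).choose_spec.2]; exact R.supp_w_s i
  X_ne_bot r e := R.X_ne_bot r (by rw [← c.map, e, Subgroup.map_bot])
  UV_N hu hv h := by
    have k := R.UV_N (c.π_U hu) (by rw [V_eq_XS, ← c.map_XS]; exact mem_map_of_mem _ hv) (map_mul c.π _ _ ▸ h.1)
    exact ⟨c.injU _ hu k.1, c.injV _ hv k.2⟩
  norm_simple i x y hx hy := c.nU i x (mem_sup_left hx) y hy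
  rank_one i x hx x1 := by
    obtain ⟨h1, h2⟩ := (c.exists_s i).choose_spec
    generalize (c.exists_s i).choose = s at h1 h2
    have h3 := h1.2 _ _ hx
    rw [h2, R.w_s_simple] at h3
    obtain ⟨a, ha, n, hn, h4, b, hb, e⟩ := c.rk i h3 fun e => x1 (conj_eq_one_iff.1 (c.inj _ _ h3 e))
    refine ⟨a, ha, n * s⁻¹, mem_inf.2 ⟨mul_mem hn (inv_mem h1), ?_⟩, b, hb, by rw [e]; group⟩
    rw [mem_comap, map_mul, map_inv, mul_inv_mem_H_iff hn.1 h1.1, h4, h2]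

theorem central {g : Γ} (hg : g ∈ ⨆ r, c.P r) (h : c.π g = 1) : ∀ x ∈ ⨆ r, c.P r, x * g = g * x := by
  have h1 : (⨆ r, c.P r) ≤ c.R'.G := iSup_le fun α => X_le_G (R := c.R') α
  obtain ⟨u, hu, n, hn, u', hu', rfl⟩ := bruhat (h1 hg)
  have h2 : c.π n = 1 := eq_of_UNU (c.π_U hu) (one_mem _) hn.1 (one_mem _) (c.π_U hu') (one_mem _)
    (by rw [← map_mul, ← map_mul, h, mul_one, mul_one])
  have h3 : u * u' = 1 := c.injU _ (mul_mem hu hu')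
    (by rw [← h, map_mul, map_mul, map_mul, h2, mul_one])
  have h4 : (⨆ r, c.P r) ≤ centralizer {n} := iSup_le fun α p hp => by
    have k := hn.2 α p hp
    rw [h2, w_one] at k
    exact mem_centralizer_singleton_iff.2 (mul_inv_eq_iff_eq_mul.1 ((c.inj _).eq k hp
      (by rw [map_mul, map_mul, map_inv, h2, one_mul, inv_one, mul_one]))).symm
  have h5 : u ∈ ⨆ r, c.P r := (iSup₂_le fun r _ => le_iSup c.P r : (⨆ r ∈ {r | R.pos r}, c.P r) ≤ _) hu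
  intro x hx
  rw [mem_centralizer_singleton_iff.1 (h4 h5), mul_assoc n, h3, mul_one]
  exact mem_centralizer_singleton_iff.1 (h4 hx)

end Cov

end Cfsg.Agent.SQ.IA
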