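import Mathlib
import Cfsg.Agent.SQ.IA
import Cfsg.Agent.Cl.EichBN
import Cfsg.Agent.Ch.EichP4

/-! Families of subgroups lying over the root subgroups of an Eichler group. -/

set_option autoImplicit false
set_option linter.unusedSectionVars false

namespace Cfsg.Agent.SQ.IA

open Cfsg Subgroup Cfsg.Agent.Chev Cfsg.Agent.Ch Cfsg.Agent.Ch.BakForm Cfsg.Agent.Cl.EB
open scoped commutatorElement

variable {K V : Type*} [Field K] [AddCommGroup V] [Module K V] {F : BakForm K V} {m : ℕ}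

theorem le_norm {G : Type*} [Group G] {H N : Subgroup G} (h : ∀ g ∈ H, ∀ x ∈ N, g * x * g⁻¹ ∈ N) :
    H ≤ normalizer (N : Set G) := fun g hg =>
  mem_normalizer_iff.2 fun x => ⟨h g hg x, fun k => by simpa [mul_assoc] using h g⁻¹ (inv_mem hg) _ k⟩

theorem Inj.step {Γ G' : Type*} [Group Γ] [Group G'] {π : Γ →* G'} {Q W : Subgroup Γ} (hQ : Inj π Q) (hW : Inj π W)
    (hn : ∀ w ∈ W, ∀ q ∈ Q, w * q * w⁻¹ ∈ Q) (h : ∀ q ∈ Q, ∀ w ∈ W, π q = π w → π w = 1) : Inj π (Q ⊔ W) := by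
  let H : Subgroup Γ :=
    { carrier := {g | ∃ q ∈ Q, ∃ w ∈ W, g = q * w}
      one_mem' := ⟨1, one_mem _, 1, one_mem _, (mul_one _).symm⟩
      mul_mem' := by
        rintro _ _ ⟨q, hq, w, hw, rfl⟩ ⟨q', hq', w', hw', rfl⟩
        exact ⟨_, mul_mem hq (hn w hw q' hq'), _, mul_mem hw hw', by group⟩
      inv_mem' := by
        rintro _ ⟨q, hq, w, hw, rfl⟩
        exact ⟨_, hn _ (inv_mem hw) _ (inv_mem hq), _, inv_mem hw, by group⟩ }
  intro g hg e
  obtain ⟨q, hq, w, hw, rfl⟩ := (sup_le (fun q hq => ⟨q, hq, 1, one_mem _, (mul_one _).symm⟩)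
    (fun w hw => ⟨1, one_mem _, w, hw, (one_mul _).symm⟩) : Q ⊔ W ≤ H) hg
  rw [map_mul] at e
  have h1 : π w = 1 := h q⁻¹ (inv_mem hq) w hw (by rw [map_inv]; exact inv_eq_of_mul_eq_one_right e)
  rw [h1, mul_one] at e
  rw [hQ q hq e, hW w hw h1, mul_one]

/-- A family lying over the root subgroups of the Eichler group. -/
structure Cv (f : F.Frame (Fin m)) (Γ : Type*) [Group Γ] where
  P : Jx m → Jx m → Subgroup Γ
  π : Γ →* F.EG
  symm : ∀ a b, P a b = P b a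
  map : ∀ a b, (P a b).map π = Xp f a b
  inj : ∀ a b, Inj π (P a b)
  c0 : ∀ a b c d, a.1 ≠ b.1 → c ≠ bar a → c ≠ bar b → d ≠ bar a → d ≠ bar b → ∀ x ∈ P a b, ∀ y ∈ P c d,
    Commute x y
  c1 : ∀ a b d, a.1 ≠ b.1 → d.1 ≠ b.1 → d ≠ bar a → ∀ x ∈ P a b, ∀ y ∈ P (bar b) d, ⁅x, y⁆ ∈ P a d
  c2 : ∀ a b, a.1 ≠ b.1 → ∀ x ∈ P b b, ∀ y ∈ P (bar b) a, ⁅x, y⁆ ∈ P a a ⊔ P a b
  c3 : ∀ a b, a.1 ≠ b.1 → ∀ x ∈ P a a, ∀ y ∈ P b b, ⁅x, y⁆ ∈ P a b

theorem tri (a b : Jx m) : a = b ∨ b = bar a ∨ a.1 ≠ b.1 := by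
  by_cases h : a.1 = b.1
  · rcases fst_eq_iff.1 h with h | h
    · exact .inl h
    · exact .inr (.inl (by rw [h, bar_bar]))
  · exact .inr (.inr h)

/-- The weight of a frame vector. -/
def ind (a x : Jx m) : ℤ := if x = a then 1 else if x = bar a then -1 else 0

theorem anti_ind (a : Jx m) : Anti (ind a) := fun x => by
  unfold ind
  by_cases h1 : x = a
  · subst h1; simp
  by_cases h2 : x = bar a
  · subst h2; simp
  · rw [if_neg (fun e => h2 (bar_eq_iff.1 e)), if_neg (fun e => h1 (bar_inj.1 e)), if_neg h1, if_neg h2, neg_zero]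

theorem ind_zero {a x : Jx m} (h : x.1 ≠ a.1) : ind a x = 0 := by
  rw [ind, if_neg (fst_ne_iff.1 h).1, if_neg (fst_ne_iff.1 h).2]

variable {f : F.Frame (Fin m)}

theorem Xp_self (a : Jx m) : Xp f a a = XY f a := if_pos rfl

theorem Xp_bar (a : Jx m) : Xp f a (bar a) = ⊥ := by rw [Xp, if_neg (ne_bar a), dif_pos (bar_bar a).symm]

theorem mem_Xp {a b : Jx m} (h : a.1 ≠ b.1) {g : F.EG} : g ∈ Xp f a b ↔ ∃ c : K, g = F.T (f.v a) (c • f.v b) 0 := by
  rw [Xp, if_neg (ne_of_fst_ne h).1, dif_neg (ne_of_fst_ne h).2.2.1]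
  refine ⟨?_, ?_⟩
  · rintro ⟨t, rfl⟩
    exact ⟨_, by rw [f.X_def, bar_bar]⟩
  · rintro ⟨c, rfl⟩
    exact ⟨_, f.T_eq_X a b c⟩

theorem mem_XY {a : Jx m} {g : F.EG} : g ∈ Xp f a a ↔ ∃ w ∈ f.V0, ∃ s, F.Val (f.v a) w s ∧ g = F.T (f.v a) w s := by
  rw [Xp_self]; rfl

theorem Xp_fix {a c d : Jx m} (hc : c.1 ≠ a.1) (hd : d.1 ≠ a.1) {g : F.EG} (hg : g ∈ Xp f c d) :
    g.1 (f.v (bar a)) = f.v (bar a) := by
  rcases tri c d with rfl | rfl | h
  · obtain ⟨w, hw, s, h, rfl⟩ := mem_XY.1 hg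
    exact Frame.T_fix_v h hw (by simpa using (ne_of_fst hc).symm)
  · rw [Xp_bar, mem_bot] at hg
    rw [hg]; rfl
  · obtain ⟨t, rfl⟩ := (mem_Xp h).1 hg
    rw [f.T_eq_X]
    exact f.X_fix_v (ne_bar_of_fst h) _ (by simpa using (ne_of_fst hd).symm) (by simpa using (ne_of_fst hc).symm)

theorem Xp_QZ (a b : Jx m) : Xp f a b ≤ F.QZ (f.v a) := fun g hg => by
  rcases tri a b with rfl | rfl | h
  · obtain ⟨w, hw, s, h, rfl⟩ := mem_XY.1 hg
    exact T_mem_QZ _ _ _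
  · rw [Xp_bar, mem_bot] at hg
    rw [hg]; exact one_mem _
  · obtain ⟨t, rfl⟩ := (mem_Xp h).1 hg
    exact T_mem_QZ _ _ _

theorem QZ_fix {a : Jx m} {g : F.EG} (hg : g ∈ F.QZ (f.v a)) (h : g.1 (f.v (bar a)) = f.v (bar a)) : g = 1 := by
  obtain ⟨u, s, h1, h2, rfl⟩ := Frame.exists_W hg
  rw [Frame.T_bar h2 (B_symm_zero (f.co_eq_zero_iff.1 h1))] at h
  have h3 := congrArg (f.co a) h
  simp only [map_add, map_sub, map_smul, h1, f.co_self, smul_eq_mul, mul_one, mul_zero, sub_zero,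
    add_eq_left] at h3
  have h4 : s = 0 := (mul_eq_zero.1 h3).resolve_right (mul_ne_zero F.ε_ne_zero (F.η_ne_zero a))
  rw [h3, zero_smul, add_zero, sub_eq_self, smul_eq_zero, or_iff_right (F.η_ne_zero a)] at h
  rw [h, h4, T_zero]

variable (f) in
/-- The Eichler transformations without the coordinate `b`. -/
def MB (a b : Jx m) : Subgroup F.EG where
  carrier := {g | ∃ u s, F.Val (f.v a) u s ∧ f.co b u = 0 ∧ g = F.T (f.v a) u s}
  one_mem' := ⟨0, 0, (f.sing a).val_zero (zero_mem _), map_zero _, (T_zero _).symm⟩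
  mul_mem' := by
    rintro _ _ ⟨w, s, h, hw, rfl⟩ ⟨w', s', h', hw', rfl⟩
    exact ⟨_, _, h.mul h', by rw [map_add, hw, hw', add_zero], h.T_mul h'⟩
  inv_mem' := by
    rintro _ ⟨w, s, h, hw, rfl⟩
    exact ⟨_, _, h.inv, by rw [map_neg, hw, neg_zero], h.T_inv⟩

theorem Xp_MB {a b c : Jx m} (h : b ≠ c) : Xp f a c ≤ MB f a b := fun g hg => by
  rcases tri a c with rfl | rfl | h'
  · obtain ⟨w, hw, s, h, rfl⟩ := mem_XY.1 hg
    exact ⟨w, s, h, Frame.co_V0 hw _, rfl⟩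
  · rw [Xp_bar, mem_bot] at hg
    rw [hg]; exact one_mem _
  · obtain ⟨t, rfl⟩ := (mem_Xp h').1 hg
    exact ⟨_, _, f.val_smul (ne_bar_of_fst h') t, by rw [map_smul, f.co_of_ne h, smul_zero], rfl⟩

theorem MB_inf {a b : Jx m} (h : a.1 ≠ b.1) {g : F.EG} (h1 : g ∈ MB f a b) (h2 : g ∈ Xp f a b) : g = 1 := by
  obtain ⟨t, rfl⟩ := (mem_Xp h).1 h2
  obtain ⟨u, s, h3, h4, e⟩ := h1
  have := Frame.co_eq_of_T_eq h.symm (f.val_smul (ne_bar_of_fst h) t) h3 e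
  rw [h4, map_smul, f.co_self, smul_eq_mul, mul_one] at this
  rw [this, zero_smul, T_zero]

namespace Cv

variable {Γ : Type*} [Group Γ] (c : Cv f Γ)

theorem mem {a b : Jx m} {p : Γ} (hp : p ∈ c.P a b) : c.π p ∈ Xp f a b := c.map a b ▸ mem_map_of_mem _ hp

theorem lift {a b : Jx m} {x : F.EG} (hx : x ∈ Xp f a b) : ∃ p ∈ c.P a b, c.π p = x := by
  rw [← c.map] at hx
  exact hx

theorem bar_one {a : Jx m} {x : Γ} (h : x ∈ c.P a (bar a)) : x = 1 :=
  c.inj _ _ x h (by have := c.mem h; rwa [Xp_bar, mem_bot] at this)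

/-- The subgroup of the roots of positive weight. -/
def U (φ : Jx m → ℤ) : Subgroup Γ := ⨆ p ∈ {p : Jx m × Jx m | 0 < φ p.1 + φ p.2}, c.P p.1 p.2

theorem le_U {φ : Jx m → ℤ} {a b : Jx m} (h : 0 < φ a + φ b) : c.P a b ≤ c.U φ :=
  le_iSup₂ (f := fun (p : Jx m × Jx m) (_ : p ∈ {p : Jx m × Jx m | 0 < φ p.1 + φ p.2}) => c.P p.1 p.2) (a, b) h

theorem U_le {φ : Jx m → ℤ} {H : Subgroup Γ} (h : ∀ a b, 0 < φ a + φ b → c.P a b ≤ H) : c.U φ ≤ H :=
  iSup₂_le fun p hp => h p.1 p.2 hp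

theorem cm {φ : Jx m → ℤ} (hφ : Anti φ) {a b d e : Jx m} (h1 : 0 ≤ φ a + φ b) (h2 : 0 < φ d + φ e) {x y : Γ}
    (hx : x ∈ c.P a b) (hy : y ∈ c.P d e) : ⁅x, y⁆ ∈ c.U φ := by
  have inv : ∀ {x y : Γ}, ⁅y, x⁆ ∈ c.U φ → ⁅x, y⁆ ∈ c.U φ := fun h => by
    simpa only [commutatorElement_inv] using inv_mem h
  have com : ∀ {x y : Γ}, Commute x y → ⁅x, y⁆ ∈ c.U φ := fun h => by
    rw [h.commutator_eq]; exact one_mem _
  have k2 : ∀ {a b : Jx m} {x y : Γ}, a.1 ≠ b.1 → 0 < φ a → 0 < φ a + φ b → x ∈ c.P b b → y ∈ c.P (bar b) a →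
      ⁅x, y⁆ ∈ c.U φ := fun h k k' hx hy =>
    (sup_le (c.le_U (by omega)) (c.le_U k') : _ ≤ c.U φ) (c.c2 _ _ h _ hx _ hy)
  have k1 : ∀ {a b e : Jx m} {x y : Γ}, a.1 ≠ b.1 → b.1 ≠ e.1 → 0 ≤ φ a + φ b → 0 < φ (bar b) + φ e →
      x ∈ c.P a b → y ∈ c.P (bar b) e → ⁅x, y⁆ ∈ c.U φ := fun {a b e x y} h h' k k' hx hy => by
    rw [hφ b] at k'
    refine c.le_U (by omega) (c.c1 _ _ _ h h'.symm ?_ _ hx _ hy)
    rintro rfl
    rw [hφ a] at k'; omega
  rcases tri d e with rfl | rfl | hde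
  · rcases tri a b with rfl | rfl | hab
    · rcases tri a d with rfl | rfl | had
      · exact c.le_U h2 (mul_mem (mul_mem (mul_mem hx hy) (inv_mem hx)) (inv_mem hy))
      · rw [hφ a] at h2; omega
      · exact c.le_U (by omega) (c.c3 _ _ had _ hx _ hy)
    · rw [c.bar_one hx]; exact com (Commute.one_left _)
    · by_cases e1 : d = bar a
      · subst e1
        rw [hφ a] at h2
        exact inv (k2 (a := b) (b := bar a) hab.symm (by omega) (by rw [hφ a]; omega) hy (by rwa [bar_bar]))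
      by_cases e2 : d = bar b
      · subst e2
        rw [hφ b] at h2
        exact inv (k2 (a := a) (b := bar b) hab (by omega) (by rw [hφ b]; omega) hy (by rwa [bar_bar, c.symm]))
      · exact com (c.c0 _ _ _ _ hab e1 e2 e1 e2 _ hx _ hy)
  · rw [hφ d] at h2; omega
  rcases tri a b with rfl | rfl | hab
  · by_cases e1 : d = bar a
    · subst e1
      rw [hφ a] at h2
      exact k2 (a := e) (b := a) hde.symm (by omega) (by omega) hx hy
    by_cases e2 : e = bar a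
    · subst e2
      rw [hφ a] at h2
      exact k2 (a := d) (b := a) hde (by omega) (by omega) hx (by rwa [c.symm])
    · have e3 : a ≠ bar d := fun k => e1 (by rw [k, bar_bar])
      have e4 : a ≠ bar e := fun k => e2 (by rw [k, bar_bar])
      exact com (c.c0 _ _ _ _ hde e3 e4 e3 e4 _ hy _ hx).symm
  · rw [c.bar_one hx]; exact com (Commute.one_left _)
  by_cases e1 : d = bar b
  · subst e1
    exact k1 hab hde h1 h2 hx hy
  by_cases e2 : d = bar a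
  · subst e2
    exact k1 hab.symm hde (by omega) h2 (by rwa [c.symm]) hy
  by_cases e3 : e = bar b
  · subst e3
    exact k1 hab hde.symm h1 (by omega) hx (by rwa [c.symm])
  by_cases e4 : e = bar a
  · subst e4
    exact k1 hab.symm hde.symm (by omega) (by omega) (by rwa [c.symm]) (by rwa [c.symm])
  · exact com (c.c0 _ _ _ _ hab e2 e1 e4 e3 _ hx _ hy)

theorem nrm {φ : Jx m → ℤ} (hφ : Anti φ) {a b : Jx m} (h1 : 0 ≤ φ a + φ b) :
    c.P a b ≤ normalizer (c.U φ : Set Γ) := le_norm fun x hx y hy =>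
  (c.U_le fun d e h z hz => show x * z * x⁻¹ ∈ c.U φ by
    simpa [commutatorElement_def] using mul_mem (c.cm hφ h1 h hx hz) (c.le_U h hz) :
      c.U φ ≤ (c.U φ).comap (MulAut.conj x).toMonoidHom) hy

/-- The Eichler group of a frame vector upstairs. -/
def Q (a : Jx m) : Subgroup Γ := ⨆ b, c.P a b

theorem le_Q (a b : Jx m) : c.P a b ≤ c.Q a := le_iSup (c.P a) b

theorem Q_eq (a : Jx m) : c.Q a = c.U (ind a) := by
  refine le_antisymm (iSup_le fun b => ?_) (c.U_le fun d e h => ?_)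
  · rcases tri a b with rfl | rfl | h
    · exact c.le_U (by simp [ind])
    · exact fun x hx => c.bar_one hx ▸ one_mem _
    · exact c.le_U (by rw [ind_zero h.symm]; simp [ind])
  · by_cases e1 : d = a
    · exact e1 ▸ c.le_Q _ _
    by_cases e2 : e = a
    · rw [c.symm]; exact e2 ▸ c.le_Q _ _
    · simp only [ind, if_neg e1, if_neg e2] at h
      split_ifs at h <;> omega

theorem injS (a : Jx m) (S : Finset (Jx m)) : Inj c.π (c.P a a ⊔ ⨆ b ∈ S, c.P a b) := by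
  classical
  induction S using Finset.induction_on with
  | empty => simpa using c.inj a a
  | insert b S hb ih =>
    rw [Finset.iSup_insert, sup_comm (c.P a b), ← sup_assoc]
    rcases tri a b with rfl | rfl | h
    · exact ih.mono (sup_le le_rfl le_sup_left)
    · exact ih.mono (sup_le le_rfl fun x hx => c.bar_one hx ▸ one_mem _)
    refine ih.step (c.inj a b) (fun x hx y hy => ?_) fun q hq w hw e => ?_
    · have k : ∀ d, c.P a d ≤ c.P a a ⊔ ⨆ b ∈ S, c.P a b →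
          c.P a d ≤ (c.P a a ⊔ ⨆ b ∈ S, c.P a b).comap (MulAut.conj x).toMonoidHom := fun d hd z hz => by
        change x * z * x⁻¹ ∈ c.P a a ⊔ ⨆ b ∈ S, c.P a b
        by_cases e1 : d = bar a
        · subst e1
          rw [c.bar_one hz, mul_one, mul_inv_cancel]; exact one_mem _
        by_cases e2 : d = bar b
        · subst e2
          have := c.c1 a b a h h (ne_bar a) x hx z (by rwa [c.symm])
          simpa [commutatorElement_def] using mul_mem (mem_sup_left this) (hd hz)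
        · rw [(c.c0 _ _ _ _ h (ne_bar a) (ne_bar_of_fst h) e1 e2 _ hx _ hz).eq, mul_inv_cancel_right]
          exact hd hz
      exact (sup_le (k a le_sup_left) (iSup₂_le fun d hd => k d (le_sup_of_le_right
        (le_iSup₂ (f := fun b (_ : b ∈ S) => c.P a b) d hd))) : _ ≤ _) hy
    · refine MB_inf h (e ▸ ?_) (c.mem hw)
      exact (sup_le (fun z hz => Xp_MB (ne_of_fst h).symm (c.mem hz))
        (iSup₂_le fun d hd z hz => Xp_MB (fun k : b = d => hb (k ▸ hd)) (c.mem hz)) :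
          _ ≤ (MB f a b).comap c.π) hq

theorem injQ (a : Jx m) : Inj c.π (c.Q a) :=
  (c.injS a Finset.univ).mono (iSup_le fun b => le_sup_of_le_right
    (le_iSup₂ (f := fun b (_ : b ∈ Finset.univ) => c.P a b) b (Finset.mem_univ b)))

theorem step (a : Jx m) {S : Set (Jx m × Jx m)} (hS : ∀ p ∈ S, p.1.1 ≠ a.1 ∧ p.2.1 ≠ a.1)
    (h : Inj c.π (⨆ p ∈ S, c.P p.1 p.2)) : Inj c.π (c.Q a ⊔ ⨆ p ∈ S, c.P p.1 p.2) := by
  refine (c.injQ a).step h (fun w hw q hq => ?_) fun q hq w hw e => ?_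
  · rw [Q_eq] at hq ⊢
    exact (mem_normalizer_iff.1 ((iSup₂_le fun p hp => c.nrm (anti_ind a)
      (by rw [ind_zero (hS p hp).1, ind_zero (hS p hp).2]; rfl) : _ ≤ normalizer (c.U (ind a) : Set Γ)) hw) q).1 hq
  · have k : c.π q ∈ F.QZ (f.v a) := (iSup_le fun b z hz => Xp_QZ a b (c.mem hz) :
      c.Q a ≤ (F.QZ (f.v a)).comap c.π) hq
    refine QZ_fix (a := a) (e ▸ k) ?_
    exact (iSup₂_le fun p hp z hz => Xp_fix (hS p hp).1 (hS p hp).2 (c.mem hz) :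
      _ ≤ ((MulAction.stabilizer (V ≃ₗ[K] V) (f.v (bar a))).comap F.EG.subtype).comap c.π) hw

theorem step1 {a d e : Jx m} (hd : d.1 ≠ a.1) (he : e.1 ≠ a.1) : Inj c.π (c.Q a ⊔ c.P d e) := by
  simpa using c.step a (S := {(d, e)}) (by simpa using ⟨hd, he⟩) (by simpa using c.inj d e)

theorem injW {φ : Jx m → ℤ} (hφ : Anti φ) (hi : Function.Injective φ) (k : ℕ) :
    Inj c.π (⨆ p ∈ {p : Jx m × Jx m | 0 < φ p.1 + φ p.2 ∧ |φ p.1| < k ∧ |φ p.2| < k}, c.P p.1 p.2) := by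
  induction k with
  | zero =>
    refine Inj.mono (A := ⊥) (fun g hg _ => mem_bot.1 hg) (iSup₂_le fun p hp => absurd hp.2.1 ?_)
    simp
  | succ k ih =>
    have le : ∀ {p : Jx m × Jx m}, 0 < φ p.1 + φ p.2 → |φ p.1| < k → |φ p.2| < k → c.P p.1 p.2 ≤
        ⨆ p ∈ {p : Jx m × Jx m | 0 < φ p.1 + φ p.2 ∧ |φ p.1| < k ∧ |φ p.2| < k}, c.P p.1 p.2 := fun {p} h1 h2 h3 =>
      le_iSup₂ (f := fun (p : Jx m × Jx m) (_ : p ∈ {p : Jx m × Jx m | 0 < φ p.1 + φ p.2 ∧ |φ p.1| < k ∧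
        |φ p.2| < k}) => c.P p.1 p.2) p ⟨h1, h2, h3⟩
    by_cases h : ∃ a, φ a = k
    · obtain ⟨a, ha⟩ := h
      have k1 : ∀ d : Jx m, |φ d| < k → d.1 ≠ a.1 := fun d hd e => by
        rw [abs_lt] at hd
        rcases fst_eq_iff.1 e with rfl | rfl
        · omega
        · rw [hφ a] at hd; omega
      refine (c.step a (fun p hp => ⟨k1 _ hp.2.1, k1 _ hp.2.2⟩) ih).mono (iSup₂_le fun p hp => ?_)
      obtain ⟨h1, h2, h3⟩ := hp
      rw [abs_lt] at h2 h3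
      push_cast at h2 h3
      by_cases e1 : φ p.1 = k
      · exact le_sup_of_le_left (hi (e1.trans ha.symm) ▸ c.le_Q _ _)
      by_cases e2 : φ p.2 = k
      · rw [c.symm]
        exact le_sup_of_le_left (hi (e2.trans ha.symm) ▸ c.le_Q _ _)
      · exact le_sup_of_le_right (le h1 (abs_lt.2 (by omega)) (abs_lt.2 (by omega)))
    · refine ih.mono (iSup₂_le fun p hp => ?_)
      obtain ⟨h1, h2, h3⟩ := hp
      rw [abs_lt] at h2 h3
      push_cast at h2 h3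
      have e1 : φ p.1 ≠ k := fun e => h ⟨_, e⟩
      have e2 : φ p.2 ≠ k := fun e => h ⟨_, e⟩
      exact le h1 (abs_lt.2 (by omega)) (abs_lt.2 (by omega))

theorem injU {φ : Jx m → ℤ} (hφ : Anti φ) (hi : Function.Injective φ) (hb : ∀ a, |φ a| ≤ m) : Inj c.π (c.U φ) :=
  (c.injW hφ hi (m + 1)).mono (c.U_le fun a b h =>
    le_iSup₂ (f := fun (p : Jx m × Jx m) (_ : p ∈ {p : Jx m × Jx m | 0 < φ p.1 + φ p.2 ∧ |φ p.1| < (m + 1 : ℕ) ∧
      |φ p.2| < (m + 1 : ℕ)}) => c.P p.1 p.2) (a, b)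
      ⟨h, by have := hb a; push_cast; omega, by have := hb b; push_cast; omega⟩)

end Cv

end Cfsg.Agent.SQ.IA
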