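import Mathlib
import Cfsg.Agent.SQ.IB

/-! A family over the root subgroups of an Eichler group generates a perfect central extension. -/

set_option autoImplicit false
set_option linter.unusedSectionVars false

namespace Cfsg.Agent.SQ.IA

open Cfsg Subgroup Cfsg.Agent.Chev Cfsg.Agent.Ch Cfsg.Agent.Ch.BakForm Cfsg.Agent.Cl.EB
open scoped commutatorElement

variable {K V : Type*} [Field K] [AddCommGroup V] [Module K V] {F : BakForm K V} {m : ℕ} {f : F.Frame (Fin m)}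

theorem third (h3 : 3 ≤ m) (i j : Fin m) : ∃ k : Fin m, k ≠ i ∧ k ≠ j := by
  by_contra! h
  have h0 := h ⟨0, by omega⟩
  have h1 := h ⟨1, by omega⟩
  have h2 := h ⟨2, by omega⟩
  simp only [Ne, Fin.ext_iff] at h0 h1 h2
  omega

theorem sp_fst (σ : SP m) {a b : Jx m} (h : a.1 ≠ b.1) : (σ.1 a).1 ≠ (σ.1 b).1 :=
  fst_ne_iff.2 ⟨fun e => (fst_ne_iff.1 h).1 (σ.1.injective e),
    fun e => (fst_ne_iff.1 h).2 (σ.1.injective (e.trans (SP.map_bar σ b).symm))⟩

theorem pos_iff {D : Prop} (hm : D → m ≠ 1) (i : Fin m) (r : Rt D m) :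
    (Pos r ∧ r ≠ sr hm i) ↔ 0 < val (fun a => ht a + ht ((sf hm i).1 a)) r := by
  have h1 : ∀ r : Rt D m, val (fun a => ht a + ht ((sf hm i).1 a)) r = val ht r + val ht (act (sf hm i) r) := by
    intro r
    obtain ⟨a, b, h, rfl⟩ := r.exists_mk
    simp only [val_mk, act_mk]; ring
  have h2 : ∀ r : Rt D m, Pos r → r ≠ sr hm i → 0 < val ht r + val ht (act (sf hm i) r) := fun r a b =>
    add_pos a (pos_act_sf hm i a b)
  have h3 : val ht (sr hm i) + val ht (act (sf hm i) (sr hm i)) = 0 := by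
    rw [act_sf_sr, anti_ht.val_ng, add_neg_cancel]
  rw [h1]
  refine ⟨fun h => h2 r h.1 h.2, fun h => ⟨by_contra fun k => ?_, fun e => by rw [e, h3] at h; omega⟩⟩
  have h4 : val ht (ng r) + val ht (act (sf hm i) (ng r)) = -(val ht r + val ht (act (sf hm i) r)) := by
    rw [act_ng, anti_ht.val_ng, anti_ht.val_ng]; ring
  by_cases e : ng r = sr hm i
  · rw [e, h3] at h4; omega
  · have := h2 _ ((pos_ng r).2 k) e
    omega

namespace Cv

variable {Γ : Type*} [Group Γ] (c : Cv f Γ)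

theorem gen1 {a b k : Jx m} (h : a.1 ≠ b.1) (h1 : k.1 ≠ a.1) (h2 : k.1 ≠ b.1) {p : Γ} (hp : p ∈ c.P a b) :
    ∃ x ∈ c.P a k, ∃ y ∈ c.P (bar k) b, p = ⁅x, y⁆ := by
  obtain ⟨t, ht⟩ := (mem_Xp h).1 (c.mem hp)
  obtain ⟨x, hx, e1⟩ := c.lift (a := a) (b := k) (x := f.X a (bar k) (F.η (bar b) * F.σ t))
    ((mem_Xp h1.symm).2 ⟨_, by rw [f.X_def, bar_bar]⟩)
  obtain ⟨y, hy, e2⟩ := c.lift (a := bar k) (b := b) (x := f.X (bar k) (bar b) 1)
    ((mem_Xp (a := bar k) h2).2 ⟨_, by rw [f.X_def, bar_bar]⟩)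
  refine ⟨x, hx, y, hy, (c.inj a b).eq hp (c.c1 a k b h1.symm h2.symm (ne_of_fst_ne h).2.2.2.2.2 x hx y hy) ?_⟩
  rw [map_commutatorElement, e1, e2, commutatorElement_def, f.X_comm (b := bar k) (c := bar b) h1.symm h2 h, mul_one,
    ht, f.T_eq_X]

theorem gen2 {a b : Jx m} (h : a.1 ≠ b.1) {p : Γ} (hp : p ∈ c.P a a) :
    ∃ x ∈ c.P b b, ∃ y ∈ c.P a (bar b), ∃ z ∈ c.P a b, p = ⁅x, y⁆ * z⁻¹ := by
  obtain ⟨w, hw, s, hs, e⟩ := mem_XY.1 (c.mem hp)
  obtain ⟨x, hx, e1⟩ := c.lift (a := b) (b := b) (mem_XY.2 ⟨w, hw, _, Frame.val_σ (Frame.val_of_V0 hs hw b), rfl⟩)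
  obtain ⟨y, hy, e2⟩ := c.lift (a := a) (b := bar b) ((mem_Xp (b := bar b) h).2 ⟨-F.η b, rfl⟩)
  obtain ⟨z, hz, e3⟩ := c.lift ((mem_Xp h).2 ⟨-F.σ s, rfl⟩)
  refine ⟨x, hx, y, hy, z, hz, (c.injQ a).eq (c.le_Q _ _ hp) (mul_mem ?_ (inv_mem (c.le_Q _ _ hz))) ?_⟩
  · exact (sup_le (c.le_Q _ _) (c.le_Q _ _) : _ ≤ c.Q a) (c.c2 a b h x hx y (by rwa [c.symm]))
  · rw [map_mul, map_inv, map_commutatorElement, e1, e2, e3, commutatorElement_def, Frame.comm_Y h hw hs, e,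
      mul_inv_cancel_right]

/-- The family indexed by the roots. -/
def Pr (r : Rt (IsD f) m) : Subgroup Γ := Sym2.lift ⟨c.P, c.symm⟩ r.1

theorem Pr_mk {a b : Jx m} (h : Ok (IsD f) a b) : c.Pr (Cl.EB.mk a b h) = c.P a b := rfl

theorem sup_eq (hd : ¬ IsD f) {φ : Jx m → ℤ} (hφ : Anti φ) {S : Set (Rt (IsD f) m)}
    (h : ∀ r, r ∈ S ↔ 0 < val φ r) : ⨆ r ∈ S, c.Pr r = c.U φ := by
  refine le_antisymm (iSup₂_le fun r hr => ?_) (c.U_le fun a b k => ?_)
  · obtain ⟨a, b, k, rfl⟩ := r.exists_mk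
    exact c.le_U ((h _).1 hr)
  · have k1 : Ok (IsD f) a b := ⟨fun e => by rw [e, hφ a] at k; omega, fun d => absurd d hd⟩
    exact le_iSup₂ (f := fun r (_ : r ∈ S) => c.Pr r) (Cl.EB.mk a b k1) ((h _).2 k)

theorem nrm' {φ : Jx m → ℤ} (hφ : Anti φ) {r : Rt (IsD f) m} (h : val φ r = 0) :
    c.Pr r ⊔ c.Pr (ng r) ≤ normalizer (c.U φ : Set Γ) := by
  obtain ⟨a, b, k, rfl⟩ := r.exists_mk
  rw [val_mk] at h
  exact sup_le (c.nrm hφ h.ge) (c.nrm hφ (a := bar a) (b := bar b) (by rw [hφ a, hφ b]; omega))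

variable [FiniteDimensional K V]

/-- The cover of the root data. -/
def cov (hd : ¬ IsD f) (h3 : 3 ≤ m) : Cov (rootBN (f := f) fun d => absurd d hd) Γ where
  P := c.Pr
  π := c.π
  map r := by
    obtain ⟨a, b, k, rfl⟩ := r.exists_mk
    exact c.map a b
  injU := by
    exact (c.injU anti_ht (fun _ _ => eq_iff_ht.2) fun a => abs_le.2 (ht_bound a).2).mono
      (c.sup_eq hd anti_ht (S := {r | Pos r}) fun _ => Iff.rfl).le
  injV := by
    have h : Anti fun a : Jx m => -ht a := fun a => by simp [ht_bar]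
    rw [c.sup_eq hd h fun r => ?_]
    · exact c.injU h (fun _ _ e => eq_iff_ht.2 (neg_inj.1 e)) fun a => by
        rw [abs_neg]; exact abs_le.2 (ht_bound a).2
    · obtain ⟨a, b, k, rfl⟩ := r.exists_mk
      have := val_ht_ne_zero (Cl.EB.mk a b k)
      change ¬ 0 < val ht _ ↔ _
      simp only [val_mk] at this ⊢
      omega
  nU i g hg x hx := by
    have h : Anti fun a => ht a + ht ((sf (fun d => absurd d hd : IsD f → m ≠ 1) i).1 a) := fun a => by
      simp only [SP.map_bar, ht_bar]; ring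
    have e := c.sup_eq hd h (S := {r | Pos r ∧ r ≠ sr (fun d => absurd d hd) i}) fun r => pos_iff _ i r
    have k : val (fun a => ht a + ht ((sf (fun d => absurd d hd : IsD f → m ≠ 1) i).1 a))
        (sr (fun d => absurd d hd : IsD f → m ≠ 1) i) = 0 := by
      have a1 := (pos_iff (fun d => absurd d hd : IsD f → m ≠ 1) i _).not.1 fun k => k.2 rfl
      have a2 := (pos_iff (fun d => absurd d hd : IsD f → m ≠ 1) i (ng (sr (fun d => absurd d hd) i))).not.1
        fun k => (pos_ng _).1 k.1 (pos_sr _ i)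
      rw [h.val_ng] at a2
      omega
    exact e.ge ((mem_normalizer_iff.1 (c.nrm' h k hg) x).1 (e.le hx))
  nV i g hg x hx := by
    have h : Anti fun a => ht a + ht ((sf (fun d => absurd d hd : IsD f → m ≠ 1) i).1 a) := fun a => by
      simp only [SP.map_bar, ht_bar]; ring
    have h' : Anti fun a => -(ht a + ht ((sf (fun d => absurd d hd : IsD f → m ≠ 1) i).1 a)) := fun a => by
      simp only [SP.map_bar, ht_bar]; ring
    have v : ∀ r : Rt (IsD f) m, val (fun a => -(ht a + ht ((sf (fun d => absurd d hd : IsD f → m ≠ 1) i).1 a))) r =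
        -val (fun a => ht a + ht ((sf (fun d => absurd d hd : IsD f → m ≠ 1) i).1 a)) r := fun r => by
      obtain ⟨a, b, k, rfl⟩ := r.exists_mk
      simp only [val_mk]; ring
    have e := c.sup_eq hd h' (S := {r | ¬ Pos r ∧ r ≠ ng (sr (fun d => absurd d hd) i)}) fun r => by
      rw [v, ← h.val_ng, ← pos_iff, pos_ng]
      exact and_congr_right fun _ => not_congr ⟨fun e => by rw [e, ng_ng], fun e => by rw [← e, ng_ng]⟩
    have k : val (fun a => ht a + ht ((sf (fun d => absurd d hd : IsD f → m ≠ 1) i).1 a))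
        (sr (fun d => absurd d hd : IsD f → m ≠ 1) i) = 0 := by
      have a1 := (pos_iff (fun d => absurd d hd : IsD f → m ≠ 1) i _).not.1 fun k => k.2 rfl
      have a2 := (pos_iff (fun d => absurd d hd : IsD f → m ≠ 1) i (ng (sr (fun d => absurd d hd) i))).not.1
        fun k => (pos_ng _).1 k.1 (pos_sr _ i)
      rw [h.val_ng] at a2
      omega
    exact e.ge ((mem_normalizer_iff.1 (c.nrm' h' ((v _).trans (neg_eq_zero.2 k)) hg) x).1 (e.le hx))
  gen i β hβ := by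
    have key : ∀ γ, γ ≠ β → γ ≠ ng β → γ ≠ sr (fun d => absurd d hd : IsD f → m ≠ 1) i ∧
        γ ≠ ng (sr (fun d => absurd d hd : IsD f → m ≠ 1) i) := fun γ h1 h2 => by
      rcases hβ with e | e
      · exact ⟨fun k => h1 (k.trans e.symm), fun k => h2 (k.trans (congrArg ng e).symm)⟩
      · exact ⟨fun k => h2 (k.trans ((ng_ng _).symm.trans (congrArg ng e).symm)), fun k => h1 (k.trans e.symm)⟩
    rw [rootBN_w_s]
    generalize sf _ i = σ
    obtain ⟨a, b, h, rfl⟩ := β.exists_mk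
    rcases h.cases with ⟨rfl, -⟩ | hab
    · obtain ⟨j, hj, -⟩ := third h3 a.1 a.1
      have h1 : a.1 ≠ (j, true).1 := hj.symm
      generalize (j, true) = b at h1
      obtain ⟨n1, n2, n3, n4, n5, n6⟩ := ne_of_fst_ne h1
      refine ⟨{Cl.EB.mk b b (ok_self hd b), Cl.EB.mk a (bar b) (ok_of_fst_ne (b := bar b) h1), Cl.EB.mk a b (ok_of_fst_ne h1)}, ?_, ?_, ?_⟩
      · rintro γ (rfl | rfl | rfl) <;> refine key _ ?_ ?_ <;> simp [mk_eq_mk, *]
      · intro p hp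
        obtain ⟨x, hx, y, hy, z, hz, rfl⟩ := c.gen2 h1 hp
        simp only [iSup_insert, iSup_singleton]
        have a1 := mem_sup_left (T := c.P a (bar b) ⊔ c.P a b) hx
        have a2 := mem_sup_right (S := c.P b b) (mem_sup_left (T := c.P a b) hy)
        exact mul_mem (mul_mem (mul_mem (mul_mem a1 a2) (inv_mem a1)) (inv_mem a2))
          (inv_mem (mem_sup_right (mem_sup_right hz)))
      · simp only [iSup_insert, iSup_singleton]
        exact (c.step1 (sp_fst σ h1.symm) (sp_fst σ h1.symm)).mono (sup_le (sup_le le_sup_right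
          (sup_le (le_sup_of_le_left (c.le_Q _ _)) (le_sup_of_le_left (c.le_Q _ _)))) (le_sup_of_le_left (c.le_Q _ _)))
    · obtain ⟨j, h1, h2⟩ := third h3 a.1 b.1
      have h1 : (j, true).1 ≠ a.1 := h1
      have h2 : (j, true).1 ≠ b.1 := h2
      generalize (j, true) = k at h1 h2
      obtain ⟨n1, n2, n3, n4, n5, n6⟩ := ne_of_fst_ne h1
      obtain ⟨m1, m2, m3, m4, m5, m6⟩ := ne_of_fst_ne h2
      refine ⟨{Cl.EB.mk a k (ok_of_fst_ne h1.symm), Cl.EB.mk (bar k) b (ok_of_fst_ne (a := bar k) h2)}, ?_, ?_, ?_⟩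
      · rintro γ (rfl | rfl) <;> refine key _ ?_ ?_ <;> simp [mk_eq_mk, *]
      · intro p hp
        obtain ⟨x, hx, y, hy, rfl⟩ := c.gen1 hab h1 h2 hp
        simp only [iSup_insert, iSup_singleton]
        have a1 := mem_sup_left (T := c.P (bar k) b) hx
        have a2 := mem_sup_right (S := c.P a k) hy
        exact mul_mem (mul_mem (mul_mem a1 a2) (inv_mem a1)) (inv_mem a2)
      · simp only [iSup_insert, iSup_singleton]
        exact (c.step1 (d := σ.1 (bar k)) (sp_fst σ h1) (sp_fst σ hab.symm)).mono (sup_le (sup_le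
          (le_sup_of_le_left (c.le_Q _ _)) le_sup_right) (le_sup_of_le_left (c.le_Q _ _)))

theorem central (hd : ¬ IsD f) (h3 : 3 ≤ m) {g : Γ} (hg : g ∈ ⨆ a, ⨆ b, c.P a b) (h : c.π g = 1) :
    ∀ x ∈ ⨆ a, ⨆ b, c.P a b, x * g = g * x := by
  have e : (⨆ a, ⨆ b, c.P a b) ≤ ⨆ r, c.Pr r := iSup_le fun a => iSup_le fun b => by
    by_cases k : b = bar a
    · exact fun x hx => c.bar_one (k ▸ hx) ▸ one_mem _
    · exact le_iSup c.Pr (Cl.EB.mk a b ⟨k, fun d => absurd d hd⟩)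
  exact fun x hx => (c.cov hd h3).central (e hg) h x (e hx)

theorem perf (h3 : 3 ≤ m) : (⨆ a, ⨆ b, c.P a b) ≤ ⁅⨆ a, ⨆ b, c.P a b, ⨆ a, ⨆ b, c.P a b⁆ := by
  have le : ∀ a b, c.P a b ≤ ⨆ a, ⨆ b, c.P a b := fun a b => (le_iSup (c.P a) b).trans (le_iSup (fun a => ⨆ b, c.P a b) a)
  have k : ∀ a b : Jx m, a.1 ≠ b.1 → c.P a b ≤ ⁅⨆ a, ⨆ b, c.P a b, ⨆ a, ⨆ b, c.P a b⁆ := fun a b h p hp => by
    obtain ⟨j, h1, h2⟩ := third h3 a.1 b.1
    obtain ⟨x, hx, y, hy, rfl⟩ := c.gen1 (k := (j, true)) h h1 h2 hp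
    exact commutator_mem_commutator (le _ _ hx) (le _ _ hy)
  refine iSup_le fun a => iSup_le fun b => ?_
  rcases tri a b with rfl | rfl | h
  · intro p hp
    obtain ⟨j, hj, -⟩ := third h3 a.1 a.1
    obtain ⟨x, hx, y, hy, z, hz, rfl⟩ := c.gen2 (b := (j, true)) hj.symm hp
    exact mul_mem (commutator_mem_commutator (le _ _ hx) (le _ _ hy)) (inv_mem (k a (j, true) hj.symm hz))
  · exact fun x hx => c.bar_one hx ▸ one_mem _
  · exact k a b h

end Cv

end Cfsg.Agent.SQ.IA
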